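import Cfsg.Agent.Lib.Balance.Locals
import Cfsg.Agent.Lib.Coprime.Commutator
import Cfsg.Agent.Lib.PGroups.Omega

/-!
# Subgroups of characteristic `p`, in terms of their coprime elements

Owner: helper99.
`Good p H`: the only element of `H` of order prime to `p` centralizing `O_p(H)` is `1`; equivalently
`C_H(O_p(H)) ≤ O_p(H)`, equivalently `F*(H) = O_p(H)`.
* `good_of_subnormal`, `good_centralizer` (climbing along a `p`-group), `good_normalizer`,
  `centralizes_module` (the `A × B` argument on an internal module).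
-/

set_option autoImplicit false
open Cfsg
open scoped commutatorElement

namespace Cfsg.Agent.Lib.QTSetup.Char2

variable {G : Type*} [Group G] {p : ℕ}

/-- `O_p(H)` in the ambient group -/
def coreP (p : ℕ) (H : Subgroup G) : Subgroup G := (pCore p ↥H).map H.subtype

/-- characteristic `p`, tested on elements of order prime to `p` -/
def Good (p : ℕ) (H : Subgroup G) : Prop :=
  ∀ x ∈ H, (orderOf x).Coprime p → x ∈ Subgroup.centralizer (coreP p H : Set G) → x = 1

theorem coreP_le (H : Subgroup G) : coreP p H ≤ H := Subgroup.map_subtype_le _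

theorem le_normalizer_coreP (H : Subgroup G) : H ≤ Subgroup.normalizer (coreP p H : Set G) :=
  Balance.le_normalizer_map_pCore H

theorem normalizer_le_normalizer_coreP (H : Subgroup G) :
    Subgroup.normalizer (H : Set G) ≤ Subgroup.normalizer (coreP p H : Set G) := by
  intro g hg
  rw [Subgroup.mem_normalizer_iff_map_conj_eq] at hg ⊢
  have h : ∀ (K : Subgroup G) (e : G ≃* G),
      (coreP p K).map e.toMonoidHom = coreP p (K.map e.toMonoidHom) := by
    intro K e
    show _ = coreP p (K.map (e : G →* G))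
    rw [coreP, coreP, ← Cores.map_pCore_equiv (p := p) (e.subgroupMap K), Subgroup.map_map,
      Subgroup.map_map]
    rfl
  exact (h H (MulAut.conj g)).trans (congrArg (coreP p) hg)

theorem le_coreP {H S : Subgroup G} (hSH : S ≤ H) (hn : H ≤ Subgroup.normalizer (S : Set G))
    (hS : IsPGroup p ↥S) : S ≤ coreP p H :=
  fun x hx => ⟨⟨x, hSH hx⟩, Balance.subgroupOf_le_pCore hn hS hx, rfl⟩

variable [Finite G]

theorem coreP_isPGroup (H : Subgroup G) : IsPGroup p ↥(coreP p H) := (Cores.pCore_isPGroup p).map _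

omit [Finite G] in
theorem eq_one_of_coprime {Q : Subgroup G} (hQ : IsPGroup p ↥Q) {x : G} (hx : x ∈ Q)
    (hc : (orderOf x).Coprime p) : x = 1 := by
  obtain ⟨k, hk⟩ := hQ ⟨x, hx⟩
  exact orderOf_eq_one_iff.1 (Nat.eq_one_of_dvd_coprimes (hc.pow_right k) dvd_rfl
    (orderOf_dvd_of_pow_eq_one (congrArg Subtype.val hk)))

theorem good_iff [Fact p.Prime] {H : Subgroup G} :
    Good p H ↔ Subgroup.centralizer (pCore p ↥H : Set ↥H) ≤ pCore p ↥H := by
  constructor
  · intro h
    haveI : (Subgroup.centralizer (pCore p ↥H : Set ↥H)).Normal := Subgroup.normal_centralizer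
    refine Cores.le_pCore (Balance.isPGroup_of_forall_coprime fun x hx hcop => Subtype.ext ?_)
    refine h _ x.2 (by rwa [Subgroup.orderOf_coe]) (Subgroup.mem_centralizer_iff.2 ?_)
    rintro _ ⟨y, hy, rfl⟩
    exact congrArg Subtype.val (Subgroup.mem_centralizer_iff.1 hx y hy)
  · intro h x hx hcop hc
    refine eq_one_of_coprime (coreP_isPGroup H) ⟨⟨x, hx⟩, h (Subgroup.mem_centralizer_iff.2 ?_), rfl⟩ hcop
    intro y hy
    exact Subtype.ext (Subgroup.mem_centralizer_iff.1 hc y ⟨y, hy, rfl⟩)

theorem good_of_normal [Fact p.Prime] {A B : Subgroup G} (hAB : A ≤ B)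
    (hn : B ≤ Subgroup.normalizer (A : Set G)) (hB : Good p B) : Good p A := by
  intro x hx hcop hc
  refine hB x (hAB hx) hcop ?_
  set X := Subgroup.zpowers x
  have hXA : X ≤ A := Subgroup.zpowers_le.2 hx
  have hle : ⁅coreP p B, X⁆ ≤ coreP p A := by
    refine le_trans (le_inf ?_ ?_) (le_coreP (S := A ⊓ coreP p B) inf_le_left ?_ ((coreP_isPGroup B).to_le inf_le_right))
    · exact (Subgroup.commutator_mono le_rfl hXA).trans
        (Subgroup.le_normalizer_iff_commutator_le_right.1 ((coreP_le B).trans hn))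
    · exact Subgroup.le_normalizer_iff_commutator_le_left.1
        ((hXA.trans hAB).trans (le_normalizer_coreP B))
    · intro a ha
      refine Subgroup.mem_normalizer_iff.2 fun y => ?_
      rw [Subgroup.mem_inf, Subgroup.mem_inf, ← Subgroup.mem_normalizer_iff.1 (Subgroup.le_normalizer ha) y,
        ← Subgroup.mem_normalizer_iff.1 (le_normalizer_coreP B (hAB ha)) y]
  have hcp : (Nat.card X).Coprime (Nat.card (⁅coreP p B, X⁆ : Subgroup G)) := by
    obtain ⟨k, hk⟩ := IsPGroup.iff_card.1 (((coreP_isPGroup (p := p) A).to_le hle))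
    rw [Nat.card_zpowers, hk]
    exact hcop.pow_right k
  have h2 : ⁅⁅coreP p B, X⁆, X⁆ = ⊥ := by
    rw [← le_bot_iff]
    refine (Subgroup.commutator_mono hle le_rfl).trans (le_of_eq ?_)
    rw [Subgroup.commutator_eq_bot_iff_le_centralizer, Subgroup.le_centralizer_iff]
    exact Subgroup.zpowers_le.2 hc
  exact Coprime.le_centralizer_of_commutator_commutator hcp h2 (Subgroup.mem_zpowers x)

theorem good_of_subnormal [Fact p.Prime] {A B : Subgroup G} (hAB : A ≤ B)
    (h : (A.subgroupOf B).IsSubnormal) (hB : Good p B) : Good p A := by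
  suffices key : ∀ S : Subgroup ↥B, S.IsSubnormal → Good p (S.map B.subtype) by
    have := key _ h
    rwa [Subgroup.map_subgroupOf_eq_of_le hAB] at this
  intro S hS
  induction hS with
  | top => rwa [← MonoidHom.range_eq_map, Subgroup.range_subtype]
  | step N T hle _ hn ih =>
    refine good_of_normal (Subgroup.map_mono hle) ?_ ih
    exact (Subgroup.map_mono ((Subgroup.normal_subgroupOf_iff_le_normalizer hle).1 hn)).trans
      (Subgroup.le_normalizer_map _)

/-- Characteristic `p` of `C(U₀)` passes to `C(U₁)` when `U₁` normalizes `U₀`. -/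
theorem good_centralizer_step [Fact p.Prime] {U₀ U₁ : Subgroup G} (h01 : U₀ ≤ U₁)
    (hn : U₁ ≤ Subgroup.normalizer (U₀ : Set G)) (hU : IsPGroup p ↥U₁)
    (h : Good p (Subgroup.centralizer (U₀ : Set G))) : Good p (Subgroup.centralizer (U₁ : Set G)) := by
  intro x hx hcop hc
  set C₀ := Subgroup.centralizer (U₀ : Set G)
  have hle : Subgroup.centralizer (U₁ : Set G) ≤ C₀ := Subgroup.centralizer_le h01
  refine h x (hle hx) hcop ?_
  have hNC : Subgroup.normalizer (U₀ : Set G) ≤ Subgroup.normalizer (C₀ : Set G) := by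
    intro g hg
    have key : ∀ a ∈ Subgroup.normalizer (U₀ : Set G), ∀ c ∈ C₀, a * c * a⁻¹ ∈ C₀ := by
      intro a ha c hc
      refine Subgroup.mem_centralizer_iff.2 fun u hu => ?_
      have h1 : a⁻¹ * u * a ∈ U₀ := by
        have := (Subgroup.mem_normalizer_iff.1 (inv_mem ha) u).1 hu
        simpa using this
      have h2 := Subgroup.mem_centralizer_iff.1 hc _ h1
      calc u * (a * c * a⁻¹) = a * (a⁻¹ * u * a * c) * a⁻¹ := by group
        _ = _ := by rw [h2]; group
    refine Subgroup.mem_normalizer_iff.2 fun c => ⟨key g hg c, fun hc => ?_⟩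
    have := key _ (inv_mem hg) _ hc
    simpa [mul_assoc] using this
  refine Balance.mem_centralizer_pGroup (coreP_isPGroup C₀) hU
    (hn.trans (hNC.trans (normalizer_le_normalizer_coreP C₀))) (le_normalizer_coreP C₀ (hle hx)) hcop hx ?_
  intro r hr
  have hsub : coreP p C₀ ⊓ Subgroup.centralizer (U₁ : Set G) ≤ coreP p (Subgroup.centralizer (U₁ : Set G)) := by
    refine le_coreP inf_le_right ?_ ((coreP_isPGroup C₀).to_le inf_le_left)
    intro a ha
    refine Subgroup.mem_normalizer_iff.2 fun y => ?_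
    rw [Subgroup.mem_inf, Subgroup.mem_inf, ← Subgroup.mem_normalizer_iff.1 (Subgroup.le_normalizer ha) y,
      ← Subgroup.mem_normalizer_iff.1 (le_normalizer_coreP C₀ (hle ha)) y]
  exact Subgroup.mem_centralizer_singleton_iff.2 (Subgroup.mem_centralizer_iff.1 hc r (hsub hr))

/-- Characteristic `p` of `C(U₀)` passes up to `C(U)` for any `p`-group `U` containing `U₀`. -/
theorem good_centralizer [Fact p.Prime] {U : Subgroup G} (hU : IsPGroup p ↥U) :
    ∀ U₀ ≤ U, Good p (Subgroup.centralizer (U₀ : Set G)) →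
      Good p (Subgroup.centralizer (U : Set G)) := by
  intro U₀
  induction U₀ using WellFoundedGT.induction with
  | _ U₀ ih =>
    intro hle hgood
    by_cases heq : U₀ = U
    · exact heq ▸ hgood
    have hlt : U₀.subgroupOf U < ⊤ := by
      rw [lt_top_iff_ne_top, Ne, Subgroup.subgroupOf_eq_top]
      exact fun h => heq (le_antisymm hle h)
    haveI : Group.IsNilpotent ↥U := hU.isNilpotent
    obtain ⟨a, han, ha⟩ := SetLike.exists_of_lt (Group.normalizerCondition_of_isNilpotent (U₀.subgroupOf U) hlt)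
    have han' : (a : G) ∈ Subgroup.normalizer (U₀ : Set G) := by
      refine Subgroup.mem_normalizer_iff.2 fun g => ⟨fun hg => (Subgroup.mem_normalizer_iff.1 han ⟨g, hle hg⟩).1 hg, fun hg => ?_⟩
      have hg' : g ∈ U := by
        have h1 := U.mul_mem (U.mul_mem (U.inv_mem a.2) (hle hg)) a.2
        simpa [mul_assoc] using h1
      exact (Subgroup.mem_normalizer_iff.1 han ⟨g, hg'⟩).2 hg
    have hle1 : U ⊓ Subgroup.normalizer (U₀ : Set G) ≤ U := inf_le_left
    have h01 : U₀ ≤ U ⊓ Subgroup.normalizer (U₀ : Set G) := le_inf hle Subgroup.le_normalizer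
    have hlt' : U₀ < U ⊓ Subgroup.normalizer (U₀ : Set G) :=
      lt_of_le_not_ge h01 fun h => ha (h ⟨a.2, han'⟩)
    exact ih _ hlt' hle1 (good_centralizer_step h01 inf_le_right (hU.to_le hle1) hgood)

/-- Characteristic `p` of `C(U)` gives that of `N(U)`. -/
theorem good_normalizer [Fact p.Prime] {U : Subgroup G} (hU : IsPGroup p ↥U)
    (h : Good p (Subgroup.centralizer (U : Set G))) : Good p (Subgroup.normalizer (U : Set G)) := by
  intro x hx hcop hc
  have hUc : U ≤ coreP p (Subgroup.normalizer (U : Set G)) := le_coreP Subgroup.le_normalizer le_rfl hU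
  have hxC : x ∈ Subgroup.centralizer (U : Set G) := Subgroup.centralizer_le hUc hc
  refine h x hxC hcop (Subgroup.centralizer_le ?_ hc)
  refine le_coreP ((coreP_le _).trans (Subgroup.centralizer_le_normalizer _))
    (le_trans ?_ (normalizer_le_normalizer_coreP _)) (coreP_isPGroup _)
  intro g hg
  have key : ∀ a ∈ Subgroup.normalizer (U : Set G), ∀ c ∈ Subgroup.centralizer (U : Set G),
      a * c * a⁻¹ ∈ Subgroup.centralizer (U : Set G) := by
    intro a ha c hc
    refine Subgroup.mem_centralizer_iff.2 fun u hu => ?_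
    have h1 : a⁻¹ * u * a ∈ U := by
      have := (Subgroup.mem_normalizer_iff.1 (inv_mem ha) u).1 hu
      simpa using this
    have h2 := Subgroup.mem_centralizer_iff.1 hc _ h1
    calc u * (a * c * a⁻¹) = a * (a⁻¹ * u * a * c) * a⁻¹ := by group
      _ = _ := by rw [h2]; group
  refine Subgroup.mem_normalizer_iff.2 fun c => ⟨key g hg c, fun hc => ?_⟩
  have := key _ (inv_mem hg) _ hc
  simpa [mul_assoc] using this

/-- The `A × B` argument on a module: `x` of order prime to `p` acts on the abelian `p`-group `W`, the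
`p`-group `R` commutes with the action of `x` on `W`, and `x` fixes the fixed points of `R`. -/
theorem centralizes_module [Fact p.Prime] {W R : Subgroup G} [IsMulCommutative W]
    (hW : IsPGroup p ↥W) (hR : IsPGroup p ↥R) (hRW : R ≤ Subgroup.normalizer (W : Set G)) {x : G}
    (hxW : x ∈ Subgroup.normalizer (W : Set G)) (hcop : (orderOf x).Coprime p)
    (hcomm : ∀ r ∈ R, r * x * r⁻¹ * x⁻¹ ∈ Subgroup.centralizer (W : Set G))
    (hfix : W ⊓ Subgroup.centralizer (R : Set G) ≤ Subgroup.centralizer ({x} : Set G)) :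
    x ∈ Subgroup.centralizer (W : Set G) := by
  set X := Subgroup.zpowers x
  have hXW : X ≤ Subgroup.normalizer (W : Set G) := Subgroup.zpowers_le.2 hxW
  have hcx : Subgroup.centralizer (X : Set G) = Subgroup.centralizer ({x} : Set G) := by
    show Subgroup.centralizer (Subgroup.zpowers x : Set G) = _
    rw [Subgroup.zpowers_eq_closure, Subgroup.centralizer_closure]
  have hWX : (Nat.card X).Coprime (Nat.card W) := by
    obtain ⟨k, hk⟩ := IsPGroup.iff_card.1 hW
    rw [Nat.card_zpowers, hk]
    exact hcop.pow_right k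
  set C := Subgroup.centralizer (W : Set G)
  set D := ⁅W, X⁆
  have hDW : D ≤ W := Subgroup.le_normalizer_iff_commutator_le_left.1 hXW
  have hzero : (W ⊓ Subgroup.centralizer (X : Set G)) ⊓ D = ⊥ :=
    Coprime.centralizer_inf_commutator_eq_bot hXW hWX
  have hD : D = ⊥ := by
    by_contra hne
    -- `R` normalizes `D`
    have hXn : ∀ r ∈ R, ∀ a ∈ X, r * a * r⁻¹ * a⁻¹ ∈ C := by
      intro r hr a ha
      obtain ⟨n, rfl⟩ := (mem_powers_iff_mem_zpowers).2 ha
      induction n with
      | zero => simp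
      | succ n ih =>
        have hxn : x ∈ Subgroup.normalizer (C : Set G) := by
          have key : ∀ a ∈ Subgroup.normalizer (W : Set G), ∀ c ∈ C, a * c * a⁻¹ ∈ C := by
            intro a ha c hc
            refine Subgroup.mem_centralizer_iff.2 fun u hu => ?_
            have h1 : a⁻¹ * u * a ∈ W := by
              have := (Subgroup.mem_normalizer_iff.1 (inv_mem ha) u).1 hu
              simpa using this
            have h2 := Subgroup.mem_centralizer_iff.1 hc _ h1
            calc u * (a * c * a⁻¹) = a * (a⁻¹ * u * a * c) * a⁻¹ := by group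
              _ = _ := by rw [h2]; group
          refine Subgroup.mem_normalizer_iff.2 fun c => ⟨key x hxW c, fun hc => ?_⟩
          have := key _ (inv_mem hxW) _ hc
          simpa [mul_assoc] using this
        have h1 := ih (Subgroup.npow_mem_zpowers x n)
        show r * x ^ (n + 1) * r⁻¹ * (x ^ (n + 1))⁻¹ ∈ C
        have h2 := C.mul_mem (hcomm r hr) ((Subgroup.mem_normalizer_iff.1 hxn _).1 h1)
        convert h2 using 1
        group
    have hRD : R ≤ Subgroup.normalizer (D : Set G) := by
      have key : ∀ r ∈ R, D.map (MulAut.conj r).toMonoidHom ≤ D := by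
        intro r hr
        rw [Subgroup.map_commutator, Subgroup.commutator_le]
        rintro _ ⟨w, hw, rfl⟩ _ ⟨a, ha, rfl⟩
        have hw' : r * w * r⁻¹ ∈ W := (Subgroup.mem_normalizer_iff.1 (hRW hr) w).1 hw
        have ha' : a * (r * w * r⁻¹)⁻¹ * a⁻¹ ∈ W :=
          (Subgroup.mem_normalizer_iff.1 (hXW ha) _).1 (W.inv_mem hw')
        have hc := Subgroup.mem_centralizer_iff.1 (hXn r hr a ha) _ ha'
        have heq : ⁅(MulAut.conj r).toMonoidHom w, (MulAut.conj r).toMonoidHom a⁆ = ⁅r * w * r⁻¹, a⁆ := by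
          simp only [MulEquiv.coe_toMonoidHom, MulAut.conj_apply, commutatorElement_def]
          have hw2 := Subgroup.mem_centralizer_iff.1 (hXn r hr a ha)
          set c := r * a * r⁻¹ * a⁻¹ with hcdef
          set u := r * w * r⁻¹ with hudef
          have e1 : r * a * r⁻¹ = c * a := by rw [hcdef]; group
          rw [e1]
          calc u * (c * a) * u⁻¹ * (c * a)⁻¹ = u * (c * (a * u⁻¹ * a⁻¹) * c⁻¹) := by group
            _ = u * a * u⁻¹ * a⁻¹ := by rw [← hc]; group
        rw [heq]
        exact Subgroup.commutator_mem_commutator hw' ha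
      intro r hr
      exact Subgroup.mem_normalizer_iff_map_conj_eq.2 (Subgroup.eq_of_le_of_card_ge (key r hr)
        (le_of_eq (Subgroup.card_map_of_injective (MulAut.conj r).injective).symm))
    have hDp : IsPGroup p ↥D := hW.to_le hDW
    have hS : IsPGroup p ↥(R ⊔ D) := hR.to_sup_of_normal_right' hDp hRD
    haveI : (D.subgroupOf (R ⊔ D)).Normal :=
      Subgroup.normal_subgroupOf_of_le_normalizer (sup_le hRD Subgroup.le_normalizer)
    have h1 := PGroups.normal_inf_center_ne_bot hS (D.subgroupOf (R ⊔ D)) (by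
      rw [Ne, Subgroup.subgroupOf_eq_bot, disjoint_iff, inf_eq_left.2 le_sup_right]
      exact hne)
    obtain ⟨⟨w, hwD, hwZ⟩, hw1⟩ := (Subgroup.ne_bot_iff_exists_ne_one).1 h1
    have hwD' : (w : G) ∈ D := hwD
    have hwR : (w : G) ∈ Subgroup.centralizer (R : Set G) := Subgroup.mem_centralizer_iff.2 fun r hr =>
      congrArg Subtype.val (Subgroup.mem_center_iff.1 hwZ ⟨r, le_sup_left (b := D) hr⟩)
    have hwx := hfix ⟨hDW hwD', hwR⟩
    rw [← hcx] at hwx
    have h2 : (w : G) ∈ (W ⊓ Subgroup.centralizer (X : Set G)) ⊓ D := ⟨⟨hDW hwD', hwx⟩, hwD'⟩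
    rw [hzero, Subgroup.mem_bot] at h2
    exact hw1 (Subtype.ext (Subtype.ext h2))
  exact Subgroup.le_centralizer_iff.1 (Subgroup.commutator_eq_bot_iff_le_centralizer.1 hD)
    (Subgroup.mem_zpowers x)

end Cfsg.Agent.Lib.QTSetup.Char2
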